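import Groth.Agent.Lib.NodeSplit16.Seq
import Groth.Agent.Lib.SubCurve16.Subcurve
import Groth.Agent.Lib.ConnH0.Basic
import Groth.Agent.Lib.CurveMult.NefGenusZero
import Groth.Agent.Lib.CurveMult.GGCurve
import Groth.Agent.Lib.Euler.AmpleComponents
import Groth.Agent.Lib.CMReg.Koszul

/-!
# Growing a subcurve of a rational tree one component at a time
-/

set_option autoImplicit false
set_option linter.all false
set_option backward.isDefEq.respectTransparency false
set_option maxHeartbeats 1000000

universe u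

open CategoryTheory CategoryTheory.Limits AlgebraicGeometry TopologicalSpace

noncomputable section

namespace GrothLib.NodeSplit16

open GrothLib.Euler (tF)
open GrothLib.SubCurve16 (JJ)
open Scheme (IdealSheafData)

variable {X : Scheme.{u}}

theorem JJ_inf_JJ (S T : Set X) : JJ S ⊓ JJ T = JJ (S ∪ T) := by
  refine le_antisymm (fun U a ha => ?_) (le_inf (SubCurve16.JJ_anti Set.subset_union_left) (SubCurve16.JJ_anti Set.subset_union_right))
  rw [IdealSheafData.ideal_inf] at ha
  rw [QCoh.mem_vanishingIdeal_iff]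
  intro x hxU hx
  have hx' : x ∈ closure S ∪ closure T := by rw [← closure_union]; exact hx
  rcases hx' with h | h
  · exact (QCoh.mem_vanishingIdeal_iff _ U a).1 ha.1 x hxU h
  · exact (QCoh.mem_vanishingIdeal_iff _ U a).1 ha.2 x hxU h

theorem JJ_eq_bot [IsReduced X] [NoetherianSpace X] : JJ (genericPoints (X : Type u)) = (⊥ : X.IdealSheafData) :=
  (inf_idem _).symm.trans (vanishing_inf_eq_bot _ _ (by
    rw [Set.union_self]; exact genericPoints.closure))

/-- Subcurves without common components meet in a reduced scheme. -/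
theorem sup_JJ_eq {k : Type u} [Field k] [IsAlgClosed k] [X.Over (Spec (CommRingCat.of k))]
    [IsProper (X ↘ Spec (CommRingCat.of k))] [IsReduced X] [ConnectedSpace X] (hdim : topologicalKrullDim X = 1)
    (hX : Curv2.AtWorstNodal k X) {S T : Set X} (hS : S ⊆ genericPoints (X : Type u))
    (hT : T ⊆ genericPoints (X : Type u)) (hST : ∀ x ∈ S, x ∉ T) :
    JJ S ⊔ JJ T = IdealSheafData.vanishingIdeal ((JJ S).support ⊓ (JJ T).support) := by
  haveI := Euler.isNoetherian_of_proper (X := X) k
  let T' := genericPoints (X : Type u) \ S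
  have hTT' : T ⊆ T' := fun x hx => ⟨hT hx, fun h => hST x h hx⟩
  have hcov : closure S ∪ closure T' = Set.univ := by
    rw [← closure_union, Set.union_diff_cancel hS, genericPoints.closure]
  have hcl : ∀ A B : Set X, A ⊆ genericPoints (X : Type u) → B ⊆ genericPoints (X : Type u) → (∀ x ∈ A, x ∉ B) →
      closure A ⊆ closure (closure A \ closure B) := fun A B hA hB hAB =>
    closure_mono fun x hx => ⟨subset_closure hx, fun h => hAB x hx (SubCurve16.mem_of_mem_closure hB (hA hx) h)⟩
  have hle₁ := IdealSheafData.vanishingIdeal_antimono (X := X)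
    (inf_le_left : (JJ S).support ⊓ (JJ T).support ≤ (JJ S).support)
  have hle₂ := IdealSheafData.vanishingIdeal_antimono (X := X)
    (inf_le_right : (JJ S).support ⊓ (JJ T).support ≤ (JJ T).support)
  rw [← eq_vanishingIdeal (JJ S)] at hle₁
  rw [← eq_vanishingIdeal (JJ T)] at hle₂
  refine le_antisymm (sup_le hle₁ hle₂) (le_of_st_le fun x => ?_)
  rw [IdealMV12.st_sup]
  by_cases hxS : x ∈ closure S
  swap
  · exact le_top.trans (le_of_eq_of_le (Goodman.st_of_notMem (JJ S) hxS).symm le_sup_left)
  by_cases hxT : x ∈ closure T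
  swap
  · exact le_top.trans (le_of_eq_of_le (Goodman.st_of_notMem (JJ T) hxT).symm le_sup_right)
  refine le_trans (IsLocalRing.le_maximalIdeal (st_ne_top (Z := (JJ S).support ⊓ (JJ T).support) ⟨hxS, hxT⟩)) ?_
  have hx' : x ∈ closure T' := closure_mono hTT' hxT
  have hm : IsLocalRing.maximalIdeal (X.presheaf.stalk x) ≤ Goodman.st (JJ S) x ⊔ Goodman.st (JJ T') x :=
    maximalIdeal_le_sup hdim hX ⟨closure S, isClosed_closure⟩ ⟨closure T', isClosed_closure⟩ hcov
      (hcl S T' hS Set.diff_subset fun x hx h => h.2 hx) (hcl T' S Set.diff_subset hS fun x hx => hx.2) hxS hx'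
  exact hm.trans (sup_le_sup_left (IdealMV12.st_mono (SubCurve16.JJ_anti hTT') x) _)

section

variable (A B : X.IdealSheafData) [IsReduced A.subscheme]
  (P : A.subscheme.IdealSheafData) [IsReduced P.subscheme]
  (hP : ∀ x : A.subscheme, x ∈ (P.support : Set A.subscheme) ↔ A.subschemeι x ∈ (B.support : Set X))
  (hsup : A ⊔ B = IdealSheafData.vanishingIdeal (A.support ⊓ B.support))

include hP hsup in
theorem app_val_zero (V : X.Opens) (hV : IsAffineOpen V) (s : Γ(ClSub.idealMod B, V)) :
    P.subschemeι.app (A.subschemeι ⁻¹ᵁ V) (A.subschemeι.app V (IdealModSec.val B V s)) = 0 := by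
  have hs : IdealModSec.val B V s ∈ (A ⊔ B).ideal ⟨V, hV⟩ := by
    rw [IdealSheafData.ideal_sup, Pi.sup_apply]; exact Submodule.mem_sup_right (IdealModSec.val_mem B ⟨V, hV⟩ s)
  have h2 := (app_mem_ideal_iff A B P hP hsup ⟨V, hV⟩ _).2 hs
  rwa [← P.ker_subschemeι_app, RingHom.mem_ker] at h2

include hP hsup in
theorem comp_eq_zero :
    (ClSub.idealModι B ≫ ClSub.toSubscheme A) ≫
      (Scheme.Modules.pushforward A.subschemeι).map (ClSub.toSubscheme P) = 0 :=
  BCComp.hom_ext_affine fun V hV s => app_val_zero A B P hP hsup V hV s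

/-- Restriction of the ideal of `B` to the ideal of the intersection on `A`. -/
def resI : ClSub.idealMod B ⟶ (Scheme.Modules.pushforward A.subschemeι).obj (ClSub.idealMod P) :=
  (KernelFork.mapIsLimit _ (kernelIsKernel (ClSub.toSubscheme P)) (Scheme.Modules.pushforward A.subschemeι)).lift
    (KernelFork.ofι (ClSub.idealModι B ≫ ClSub.toSubscheme A) (comp_eq_zero A B P hP hsup))

theorem resI_ι : resI A B P hP hsup ≫ (Scheme.Modules.pushforward A.subschemeι).map (ClSub.idealModι P) =
    ClSub.idealModι B ≫ ClSub.toSubscheme A :=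
  (KernelFork.mapIsLimit _ (kernelIsKernel (ClSub.toSubscheme P)) (Scheme.Modules.pushforward A.subschemeι)).fac
    (KernelFork.ofι (ClSub.idealModι B ≫ ClSub.toSubscheme A) (comp_eq_zero A B P hP hsup)) WalkingParallelPair.zero

attribute [local irreducible] resI

theorem val_resI (V : X.Opens) (s : Γ(ClSub.idealMod B, V)) :
    IdealModSec.val P (A.subschemeι ⁻¹ᵁ V) ((resI A B P hP hsup).app V s) =
      A.subschemeι.app V (IdealModSec.val B V s) :=
  congrArg (fun φ : ClSub.idealMod B ⟶ (Scheme.Modules.pushforward A.subschemeι).obj (Coh.structureModule A.subscheme) =>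
    φ.app V s) (resI_ι A B P hP hsup)

theorem val_incl (V : X.Opens) (s : Γ(ClSub.idealMod (A ⊓ B), V)) :
    IdealModSec.val B V ((HodgeIndex.idealIncl (inf_le_right : A ⊓ B ≤ B)).app V s) = IdealModSec.val (A ⊓ B) V s :=
  congrArg (fun φ : ClSub.idealMod (A ⊓ B) ⟶ Coh.structureModule X => φ.app V s) (IdealMV12.idealIncl_ι (inf_le_right : A ⊓ B ≤ B))

theorem incl_resI : HodgeIndex.idealIncl (inf_le_right : A ⊓ B ≤ B) ≫ resI A B P hP hsup = 0 := by
  refine BCComp.hom_ext_affine fun V hV s => IdealModSec.val_injective P _ ?_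
  show IdealModSec.val P _ ((resI A B P hP hsup).app V ((HodgeIndex.idealIncl (inf_le_right : A ⊓ B ≤ B)).app V s)) = IdealModSec.val P _ 0
  rw [IdealModSec.val_zero, val_resI, val_incl]
  have hs := IdealModSec.val_mem (A ⊓ B) ⟨V, hV⟩ s
  rw [IdealSheafData.ideal_inf] at hs
  have := hs.1
  rw [← A.ker_subschemeι_app] at this
  exact this

theorem epi_resI : Epi (resI A B P hP hsup) := by
  refine FormalExist7.epi_of_stalk _ fun x y => ?_
  obtain ⟨U₀, hx₀, t₀, rfl⟩ :=
    TopCat.Presheaf.exists_germ_eq ((Scheme.Modules.pushforward A.subschemeι).obj (ClSub.idealMod P)).presheaf y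
  obtain ⟨V, hV, hxV, hVU⟩ := exists_isAffineOpen_mem_and_subset (x := x) (U := U₀) hx₀
  let t := ((Scheme.Modules.pushforward A.subschemeι).obj (ClSub.idealMod P)).presheaf.map
    (homOfLE (show V ≤ U₀ from hVU)).op t₀
  obtain ⟨b, hb⟩ := A.subschemeι.app_surjective V hV (IdealModSec.val P (A.subschemeι ⁻¹ᵁ V) t)
  have hmem := IdealModSec.val_mem P ⟨A.subschemeι ⁻¹ᵁ V, hV.preimage A.subschemeι⟩ t
  rw [← hb] at hmem
  have h2 := (app_mem_ideal_iff A B P hP hsup ⟨V, hV⟩ b).1 hmem
  rw [IdealSheafData.ideal_sup, Pi.sup_apply, Submodule.mem_sup] at h2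
  obtain ⟨a, ha, c, hc, rfl⟩ := h2
  obtain ⟨s, hs⟩ := IdealModSec.exists_val_eq B ⟨V, hV⟩ hc
  have ha0 : A.subschemeι.app V a = 0 := by rwa [← A.ker_subschemeι_app ⟨V, hV⟩, RingHom.mem_ker] at ha
  have hgs : (resI A B P hP hsup).app V s = t := IdealModSec.val_injective P _ ((val_resI A B P hP hsup V s).trans (by
    rw [← hb, map_add, ha0, zero_add, hs]))
  refine ⟨(ClSub.idealMod B).presheaf.germ V x hxV s, ?_⟩
  rw [QCoh.stalkLin_germ, hgs]
  exact TopCat.Presheaf.germ_res_apply _ _ _ _ _

theorem exact_resI : (ShortComplex.mk _ _ (incl_resI A B P hP hsup)).Exact := by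
  refine (OX.exact_iff _).2 fun x => ?_
  refine (ShortComplex.moduleCat_exact_iff _).2 fun (y : (ClSub.idealMod B).presheaf.stalk x) hy => ?_
  change QCoh.stalkLin (resI A B P hP hsup) x y = 0 at hy
  obtain ⟨U₀, hx₀, m, rfl⟩ := TopCat.Presheaf.exists_germ_eq (ClSub.idealMod B).presheaf y
  rw [QCoh.stalkLin_germ] at hy
  obtain ⟨W, hxW, i₁, i₂, hW⟩ := TopCat.Presheaf.germ_eq
    ((Scheme.Modules.pushforward A.subschemeι).obj (ClSub.idealMod P)).presheaf x hx₀ hx₀ _ 0
    (hy.trans (map_zero _).symm)
  rw [map_zero] at hW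
  obtain ⟨V, hxV, hVW⟩ := BlowUp.exists_affine_mem_le hxW
  let m' := (ClSub.idealMod B).presheaf.map (homOfLE (hVW.trans i₁.le)).op m
  have hm' : (resI A B P hP hsup).app V.1 m' = 0 := by
    have h1 := congrArg (((Scheme.Modules.pushforward A.subschemeι).obj (ClSub.idealMod P)).presheaf.map (homOfLE hVW).op) hW
    rw [map_zero, Cohom.map_map_apply] at h1
    exact (PresheafOfModules.naturality_apply (resI A B P hP hsup).val (homOfLE (hVW.trans i₁.le)).op m).trans h1
  have hA : IdealModSec.val B V.1 m' ∈ A.ideal V := by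
    rw [← A.ker_subschemeι_app V, RingHom.mem_ker]
    exact (val_resI A B P hP hsup V.1 m').symm.trans ((congrArg _ hm').trans (IdealModSec.val_zero P _))
  have hAB : IdealModSec.val B V.1 m' ∈ (A ⊓ B).ideal V := by
    rw [IdealSheafData.ideal_inf]; exact ⟨hA, IdealModSec.val_mem B V m'⟩
  obtain ⟨s, hs⟩ := IdealModSec.exists_val_eq (A ⊓ B) V hAB
  refine ⟨(ClSub.idealMod (A ⊓ B)).presheaf.germ V.1 x hxV s, ?_⟩
  refine (QCoh.stalkLin_germ (HodgeIndex.idealIncl (inf_le_right : A ⊓ B ≤ B)) hxV s).trans ?_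
  rw [show (HodgeIndex.idealIncl (inf_le_right : A ⊓ B ≤ B)).app V.1 s = m' from
    IdealModSec.val_injective B V.1 ((val_incl A B V.1 s).trans hs)]
  exact TopCat.Presheaf.germ_res_apply _ _ _ _ _

theorem shortExact_resI : (ShortComplex.mk _ _ (incl_resI A B P hP hsup)).ShortExact :=
  { exact := exact_resI A B P hP hsup
    mono_f := HodgeIndex.mono_idealIncl (inf_le_right : A ⊓ B ≤ B)
    epi_g := epi_resI A B P hP hsup }

end

variable (k : Type u) [Field k] [X.Over (Spec (CommRingCat.of k))] [IsProper (X ↘ Spec (CommRingCat.of k))]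

include k in
/-- The ideal of a connected reduced closed subscheme has no first cohomology. -/
theorem subsingleton_H1_idealMod [IsAlgClosed k] (h1 : Subsingleton (Coh.HH X (Coh.structureModule X) 1))
    (J : X.IdealSheafData) [IsReduced J.subscheme] [ConnectedSpace J.subscheme] :
    Subsingleton (Coh.HH X (ClSub.idealMod J) 1) := by
  haveI := Euler.epi_toSubscheme J
  have hS : (ShortComplex.mk (ClSub.idealModι J) (ClSub.toSubscheme J) (kernel.condition _)).ShortExact :=
    { exact := ShortComplex.exact_of_f_is_kernel _ (kernelIsKernel _)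
      mono_f := inferInstanceAs (Mono (kernel.ι (ClSub.toSubscheme J))) }
  letI : J.subscheme.Over (Spec (CommRingCat.of k)) := ⟨J.subschemeι ≫ X ↘ Spec (CommRingCat.of k)⟩
  haveI : IsProper (J.subscheme ↘ Spec (CommRingCat.of k)) :=
    inferInstanceAs (IsProper (J.subschemeι ≫ X ↘ Spec (CommRingCat.of k)))
  let eC : Coh.HH J.subscheme (Coh.structureModule J.subscheme) 0 ≃+ Γ(J.subscheme, ⊤) := ProjCoh.H0top _
  have h0 := ConnH0.finrank_H0_eq_one k (X := J.subscheme)
  haveI : Nonempty (⊤ : J.subscheme.Opens) := ⟨⟨Classical.arbitrary J.subscheme, trivial⟩⟩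
  have hone : eC.symm 1 ≠ 0 := fun h =>
    one_ne_zero ((eC.apply_symm_apply 1).symm.trans ((congrArg eC h).trans (map_zero eC)))
  have hsurj : Function.Surjective (Cohom.hhMap k (ClSub.toSubscheme J) 0) := by
    intro z
    let g : Γ(J.subscheme, ⊤) := ProjCoh.H0top (ClSub.quotMod J) z
    obtain ⟨a, ha⟩ := (finrank_eq_one_iff_of_nonzero' _ hone).1 h0 (eC.symm g)
    refine ⟨(ProjCoh.H0top (Coh.structureModule X)).symm (show Γ(X, ⊤) from Coh.toGlobal (X ↘ Spec (CommRingCat.of k)) a),
      (ProjCoh.H0top (ClSub.quotMod J)).injective ?_⟩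
    refine (ProjCoh.H0top_map ((QCoh.toAbFun _).map (ClSub.toSubscheme J)) _).trans ?_
    erw [AddEquiv.apply_symm_apply]
    have h2 := congrArg eC ha
    rw [show eC (a • eC.symm 1) = (show Γ(J.subscheme, ⊤) from Coh.toGlobal (J.subscheme ↘ Spec (CommRingCat.of k)) a) *
      eC (eC.symm 1) from ProjCoh.H0top_smul _ a _, AddEquiv.apply_symm_apply, AddEquiv.apply_symm_apply, mul_one] at h2
    exact h2
  refine subsingleton_of_forall_eq 0 fun y => ?_
  obtain ⟨x, rfl⟩ := (Cohom.exact₁ (A := k) hS 0 y).1 (@Subsingleton.elim _ h1 _ _)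
  obtain ⟨w, rfl⟩ := hsurj x
  exact (Cohom.exact₃ (A := k) hS 0 _).2 ⟨w, rfl⟩

include k in
/-- One step of the induction: adding a component on which `F` is globally generated. -/
theorem subsingleton_H1_step [IsAlgClosed k] (hd : topologicalKrullDim X ≤ 1)
    (h1 : Subsingleton (Coh.HH X (Coh.structureModule X) 1)) {F : X.Modules} (hF : FlatMod.IsFinLocFree F)
    (A B : X.IdealSheafData) [IsReduced A.subscheme] [IsReduced B.subscheme] [ConnectedSpace B.subscheme]
    (hsup : A ⊔ B = IdealSheafData.vanishingIdeal (A.support ⊓ B.support))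
    (hgg : Curv2.IsGloballyGenerated ((Scheme.Modules.pullback A.subschemeι).obj F))
    (hAB : Subsingleton (Coh.HH X ((tF F).obj (ClSub.idealMod (A ⊓ B))) 1)) :
    Subsingleton (Coh.HH X ((tF F).obj (ClSub.idealMod B)) 1) := by
  haveI := Euler.isNoetherian_of_proper (X := X) k
  let P : A.subscheme.IdealSheafData := IdealSheafData.vanishingIdeal
    ⟨A.subschemeι ⁻¹' (B.support : Set X), B.support.isClosed.preimage A.subschemeι.continuous⟩
  haveI : IsReduced P.subscheme := RedSub.isReduced_subscheme_vanishingIdeal _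
  let g := resI A B P (fun x => Iff.rfl) hsup
  have hS := shortExact_resI A B P (fun x => Iff.rfl) hsup
  letI : A.subscheme.Over (Spec (CommRingCat.of k)) := ⟨A.subschemeι ≫ X ↘ Spec (CommRingCat.of k)⟩
  haveI : IsProper (A.subscheme ↘ Spec (CommRingCat.of k)) :=
    inferInstanceAs (IsProper (A.subschemeι ≫ X ↘ Spec (CommRingCat.of k)))
  haveI := Euler.isNoetherian_of_proper (X := A.subscheme) k
  have hdA : topologicalKrullDim A.subscheme ≤ 1 :=
    (Scheme.Hom.isClosedEmbedding A.subschemeι).isInducing.topologicalKrullDim_le.trans hd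
  have hcP : Coh.IsCoh (ClSub.idealMod P) := QCoh.isCoh_kernel (ClSub.toSubscheme P)
    (Euler.isCoh_of_isInvertible Euler.isInvertible_structure) (QCoh.pushUnit_isCoh P.subschemeι)
  have hcB : Coh.IsCoh (ClSub.idealMod B) := QCoh.isCoh_kernel (ClSub.toSubscheme B)
    (Euler.isCoh_of_isInvertible Euler.isInvertible_structure) (QCoh.pushUnit_isCoh B.subschemeι)
  have hcp : Coh.IsCoh ((Scheme.Modules.pushforward A.subschemeι).obj (ClSub.idealMod P)) :=
    FormalExist7.isCoh_pushforward A.subschemeι hcP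
  haveI : Epi g := hS.epi_g
  have hHB := subsingleton_H1_idealMod k h1 B
  have hpush := SubCurve16.subsingleton_H1_of_epi k hd g hcB hcp hHB
  haveI : (ClSub.idealMod P).IsQuasicoherent := hcP.1
  obtain ⟨e⟩ := Snapper.nonempty_HH_linearEquiv_pushforward (A := k) A.subschemeι rfl (ClSub.idealMod P) 1
  have hHP : Subsingleton (Coh.HH A.subscheme (ClSub.idealMod P) 1) := @Equiv.subsingleton _ _ e.toEquiv hpush
  let E := (Scheme.Modules.pullback A.subschemeι).obj F
  have hE : FlatMod.IsFinLocFree E := OX.isFinLocFree_pullback A.subschemeι hF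
  obtain ⟨N, q, hq⟩ := CurveMult.exists_epi_freeMod (Euler.isCoh_of_isFinLocFree hE) hgg
  haveI := hq
  haveI : Epi ((tF (ClSub.idealMod P)).map q) := inferInstance
  let M := CohB1.tensorMod E (ClSub.idealMod P)
  have hM : Subsingleton (Coh.HH A.subscheme M 1) :=
    CurveMult.subsingleton_H1_of_epi k hdA ((tF (ClSub.idealMod P)).map q)
      (CMReg.subsingleton_of_iso (CMReg.tensorSigmaIso (fun _ : Fin N => Coh.structureModule A.subscheme) (ClSub.idealMod P)).symm
        (CMReg.subsingleton_HH_sigma _ fun _ =>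
          CMReg.subsingleton_of_iso (OX.tensorUnitLeftIso (ClSub.idealMod P)).symm hHP))
  haveI := ProjFormula.isIso_projHom A.subschemeι hF (ClSub.idealMod P)
  haveI : M.IsQuasicoherent := (QCoh.isCoh_of_iso (((OX.tensorBraiding (X := A.subscheme)).app _).app _)
      (Euler.isCoh_tF hcP hE)).1
  obtain ⟨eM⟩ := Snapper.nonempty_HH_linearEquiv_pushforward (A := k) A.subschemeι rfl M 1
  haveI hpM : Subsingleton (Coh.HH X ((Scheme.Modules.pushforward A.subschemeι).obj M) 1) :=
    @Equiv.subsingleton _ _ eM.symm.toEquiv hM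
  have i' : (tF F).obj ((Scheme.Modules.pushforward A.subschemeι).obj (ClSub.idealMod P)) ≅
      (Scheme.Modules.pushforward A.subschemeι).obj M :=
    ((OX.tensorBraiding (X := X)).app F).app _ ≪≫
      asIso (ProjFormula.projHom A.subschemeι F (ClSub.idealMod P))
  have hX3 : Subsingleton (Coh.HH X ((tF F).obj ((Scheme.Modules.pushforward A.subschemeι).obj (ClSub.idealMod P))) 1) :=
    (Euler.hhEquiv (A := k) i' 1).toEquiv.subsingleton
  have hT := OX.tensor_map_shortExact (X := X) (F := F) (OX.flat_of_isFinLocFree hF) hS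
  refine subsingleton_of_forall_eq 0 fun y => ?_
  obtain ⟨z, rfl⟩ := (Cohom.exact₂ (A := k) hT 1 y).1 (@Subsingleton.elim _ hX3 _ _)
  exact (congrArg _ (@Subsingleton.elim _ hAB z 0)).trans (map_zero _)

include k in
/-- Growing a connected subcurve until it is everything. -/
theorem subsingleton_H1_chain [IsAlgClosed k] [IsReduced X] [ConnectedSpace X] (hdim : topologicalKrullDim X = 1)
    (hX : Curv2.AtWorstNodal k X) (h1 : Subsingleton (Coh.HH X (Coh.structureModule X) 1))
    {F : X.Modules} (hF : FlatMod.IsFinLocFree F) {R : Set X} (hR : R.Nonempty)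
    (hgg : ∀ η ∈ genericPoints (X : Type u), η ∉ R →
      Curv2.IsGloballyGenerated ((Scheme.Modules.pullback (JJ ({η} : Set X)).subschemeι).obj F)) :
    ∀ (n : ℕ) (T : Set X), T ⊆ genericPoints (X : Type u) → (genericPoints (X : Type u) \ T).ncard = n →
      R ⊆ T → _root_.IsConnected (closure T) → Subsingleton (Coh.HH X ((tF F).obj (ClSub.idealMod (JJ T))) 1) := by
  haveI := Euler.isNoetherian_of_proper (X := X) k
  intro n
  induction n with
  | zero =>
    intro T hT hn _ _
    have hfin : (genericPoints (X : Type u) \ T).Finite :=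
      (genericPoints.finite NoetherianSpace.finite_irreducibleComponents).subset Set.diff_subset
    have hTe : T = genericPoints (X : Type u) :=
      hT.antisymm (Set.diff_eq_empty.1 ((Set.ncard_eq_zero hfin).1 hn))
    rw [hTe, JJ_eq_bot]
    have hz : IsZero (ClSub.idealMod (⊥ : X.IdealSheafData)) := by
      haveI : Mono (ClSub.idealModι (⊥ : X.IdealSheafData)) := inferInstanceAs (Mono (kernel.ι _))
      refine IsZero.of_mono_eq_zero (ClSub.idealModι (⊥ : X.IdealSheafData)) (BCComp.hom_ext_affine fun V hV s => ?_)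
      have := IdealModSec.val_mem (⊥ : X.IdealSheafData) ⟨V, hV⟩ s
      rw [IdealSheafData.ideal_bot, Pi.bot_apply, Ideal.mem_bot] at this
      exact this
    have hsupp : CohB1.support ((tF F).obj (ClSub.idealMod (⊥ : X.IdealSheafData))) = ∅ :=
      Set.eq_empty_iff_forall_notMem.2 fun x hx =>
        hx (ModuleCat.subsingleton_of_isZero ((OX.stalk x).map_isZero ((tF F).map_isZero hz)))
    exact Euler.subsingleton_HH_of_finite_support _ (hsupp ▸ Set.finite_empty)
      (fun x hx => absurd (hsupp ▸ hx) (Set.notMem_empty x)) 1 le_rfl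
  | succ n ih =>
    intro T hT hn hRT hc
    have hfin : (genericPoints (X : Type u) \ T).Finite :=
      (genericPoints.finite NoetherianSpace.finite_irreducibleComponents).subset Set.diff_subset
    obtain ⟨η, hη, hmeet⟩ : ∃ η ∈ genericPoints (X : Type u) \ T, (closure ({η} : Set X) ∩ closure T).Nonempty := by
      by_contra hcon
      have hdis : ∀ x ∈ closure T, x ∉ closure (genericPoints (X : Type u) \ T) := fun x hx hx' => by
        rw [← Set.biUnion_of_singleton (genericPoints (X : Type u) \ T), hfin.closure_biUnion] at hx'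
        obtain ⟨η, hη, hxη⟩ := Set.mem_iUnion₂.1 hx'
        exact hcon ⟨η, hη, x, hxη, hx⟩
      have hcompl : (closure T)ᶜ = closure (genericPoints (X : Type u) \ T) := by
        refine Set.Subset.antisymm (fun y hy => ?_) fun y hy hy' => hdis y hy' hy
        have h : y ∈ closure (genericPoints (X : Type u)) := by rw [genericPoints.closure]; trivial
        rw [← Set.union_diff_cancel hT, closure_union] at h
        exact h.resolve_left hy
      have hclop : IsClopen (closure T) := ⟨isClosed_closure, isClosed_compl_iff.1 (hcompl ▸ isClosed_closure)⟩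
      have huniv := hclop.eq_univ hc.nonempty
      obtain ⟨η, hη⟩ : (genericPoints (X : Type u) \ T).Nonempty := (Set.ncard_pos hfin).1 (by omega)
      exact hdis η (huniv ▸ Set.mem_univ η) (subset_closure hη)
    have hηR : η ∉ R := fun h => hη.2 (hRT h)
    have hc' : _root_.IsConnected (closure (insert η T)) := by
      rw [Set.insert_eq, closure_union]
      exact _root_.IsConnected.union hmeet isIrreducible_singleton.closure.isConnected hc
    have hn' : (genericPoints (X : Type u) \ insert η T).ncard = n := by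
      rw [show genericPoints (X : Type u) \ insert η T = (genericPoints (X : Type u) \ T) \ {η} by
        rw [Set.diff_diff, Set.union_singleton], Set.ncard_diff_singleton_of_mem hη, hn, Nat.add_sub_cancel]
    have hih := ih (insert η T) (Set.insert_subset hη.1 hT) hn' (hRT.trans (Set.subset_insert η T)) hc'
    haveI : ConnectedSpace (JJ T).subscheme := by
      have hr := (JJ T).range_subschemeι.trans (SubCurve16.support_JJ T)
      haveI := isConnected_iff_connectedSpace.1 (hr ▸ hc : _root_.IsConnected (Set.range (JJ T).subschemeι))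
      exact ((Scheme.Hom.isClosedEmbedding (JJ T).subschemeι).isEmbedding.toHomeomorph).connectedSpace_iff.2 inferInstance
    refine subsingleton_H1_step k hdim.le h1 hF (JJ {η}) (JJ T)
      (sup_JJ_eq hdim hX (Set.singleton_subset_iff.2 hη.1) hT fun x hx => by rw [Set.mem_singleton_iff.1 hx]; exact hη.2)
      (hgg η hη.1 hηR) ?_
    rw [JJ_inf_JJ, ← Set.insert_eq]
    exact hih

end GrothLib.NodeSplit16
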