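import Groth.Agent.Lib.IdealMV12.Basic
import Groth.Agent.Lib.QCoh.Killed
import Mathlib.RingTheory.Ideal.AssociatedPrime.Finiteness
import Mathlib.RingTheory.IntegralClosure.IntegrallyClosed
import Groth.Prelude.Def_Curv2

/-!
# Two mutually annihilating ideals in a ring of delta invariant one fill the maximal ideal
-/

set_option autoImplicit false
set_option linter.all false
set_option backward.isDefEq.respectTransparency false

universe u

open CategoryTheory CategoryTheory.Limits AlgebraicGeometry TopologicalSpace IsLocalRing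

noncomputable section

namespace GrothLib.NodeSplit16

variable {A : Type u} [CommRing A]

theorem exists_nzd_add [IsNoetherianRing A] [_root_.IsReduced A] {I J : Ideal A}
    (hI : ∀ a, (∀ j ∈ J, a * j = 0) → a ∈ I) (hJ : ∀ a, (∀ i ∈ I, a * i = 0) → a ∈ J) :
    ∃ i ∈ I, ∃ j ∈ J, i + j ∈ nonZeroDivisors A := by
  by_contra hcon
  push Not at hcon
  have hsub : ((I ⊔ J : Ideal A) : Set A) ⊆ ⋃ p ∈ associatedPrimes A A, (p : Set A) := fun s hs => by
    rw [biUnion_associatedPrimes_eq_compl_nonZeroDivisors]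
    obtain ⟨i, hi, j, hj, rfl⟩ := Submodule.mem_sup.1 hs
    exact hcon i hi j hj
  obtain ⟨p, hp, hle⟩ := (Ideal.subset_union_prime_finite (associatedPrimes.finite A A) ⊥ ⊥
    fun p hp _ _ => hp.isPrime).1 hsub
  obtain ⟨hpp, z, hz⟩ := isAssociatedPrime_iff.1 hp
  have hann : ∀ a ∈ p, a * z = 0 := fun a ha => by
    rwa [hz, Submodule.mem_colon_singleton, smul_eq_mul, Submodule.mem_bot] at ha
  have hzI : z ∈ I := hI z fun j hj => by rw [mul_comm]; exact hann j (hle (Submodule.mem_sup_right hj))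
  have hzJ : z ∈ J := hJ z fun i hi => by rw [mul_comm]; exact hann i (hle (Submodule.mem_sup_left hi))
  have hz0 : z = 0 := IsNilpotent.eq_zero (x := z)
    ⟨2, by rw [pow_two]; exact hann z (hle (Submodule.mem_sup_left hzI))⟩
  refine hpp.ne_top ((Ideal.eq_top_iff_one p).2 ?_)
  rw [hz, Submodule.mem_colon_singleton, smul_eq_mul, Submodule.mem_bot, hz0, mul_zero]

theorem le_sup_of_deltaInv_eq_one [IsLocalRing A] [IsNoetherianRing A] [_root_.IsReduced A]
    (hδ : Curv2.deltaInv A = 1) {I J : Ideal A} (hIJ : I ⊓ J = ⊥)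
    (hI : ∀ a, (∀ j ∈ J, a * j = 0) → a ∈ I) (hJ : ∀ a, (∀ i ∈ I, a * i = 0) → a ∈ J)
    (hIm : I ≤ maximalIdeal A) (hJm : J ≤ maximalIdeal A) :
    maximalIdeal A ≤ I ⊔ J := by
  obtain ⟨i, hi, j, hj, hs⟩ := exists_nzd_add hI hJ
  have hmul : ∀ a ∈ I, ∀ b ∈ J, a * b = 0 := fun a ha b hb =>
    (Submodule.eq_bot_iff _).1 hIJ _ ⟨Ideal.mul_mem_right _ _ ha, Ideal.mul_mem_left _ _ hb⟩
  let K := FractionRing A
  let e : K := IsLocalization.mk' K i ⟨i + j, hs⟩
  have hee : e * e = e := by
    rw [← IsLocalization.mk'_mul]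
    refine IsLocalization.mk'_eq_of_eq ?_
    show ((i + j) * (i + j)) * i = (i + j) * (i * i)
    linear_combination (i + j) * hmul i hi j hj
  have hint : IsIntegral A e := by
    refine ⟨Polynomial.X ^ 2 - Polynomial.X, Polynomial.monic_X_pow_sub (by rw [Polynomial.degree_X]; norm_num), ?_⟩
    simp [pow_two, hee]
  intro μ hμ
  let ebar : integralClosure A K := ⟨e, hint⟩
  let M := LinearMap.range (Algebra.linearMap A ↥(integralClosure A K))
  have hlen : Module.length A (↥(integralClosure A K) ⧸ M) = 1 := hδ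
  have hsimple : IsSimpleModule A (↥(integralClosure A K) ⧸ M) := Module.length_eq_one_iff.1 hlen
  have hmem : μ • (Submodule.Quotient.mk ebar : _ ⧸ M) = 0 := by
    by_contra h
    obtain ⟨r, hr⟩ := IsSimpleModule.toSpanSingleton_surjective (R := A) h (Submodule.Quotient.mk ebar : _ ⧸ M)
    rw [LinearMap.toSpanSingleton_apply, smul_smul] at hr
    have h1 : (1 - r * μ) • (Submodule.Quotient.mk ebar : _ ⧸ M) = 0 := by
      rw [sub_smul, one_smul, hr, sub_self]
    exact h (by rw [(IsLocalRing.isUnit_one_sub_self_of_mem_nonunits _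
      (Ideal.mul_mem_left _ r hμ)).smul_eq_zero.1 h1, smul_zero])
  rw [← Submodule.Quotient.mk_smul, Submodule.Quotient.mk_eq_zero] at hmem
  obtain ⟨a, ha⟩ := hmem
  have ha' : algebraMap A K a = μ • e := congrArg Subtype.val ha
  have hK : a * (i + j) = μ * i := by
    refine IsFractionRing.injective A K ?_
    rw [map_mul, map_mul, ha', Algebra.smul_def, mul_assoc]
    exact congrArg _ (IsLocalization.mk'_spec K i ⟨i + j, hs⟩)
  have hx : (μ - a) * i = a * j := by linear_combination -hK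
  have h0 : a * j = 0 :=
    (Submodule.eq_bot_iff _).1 hIJ _ ⟨hx ▸ Ideal.mul_mem_left _ _ hi, Ideal.mul_mem_left _ _ hj⟩
  refine Submodule.mem_sup.2 ⟨a, hI a fun y hy => ?_, μ - a, hJ _ fun x hx' => ?_, add_sub_cancel a μ⟩
  · refine (mem_nonZeroDivisors_iff.1 hs).2 _ ?_
    linear_combination a * hmul i hi y hy + y * h0
  · refine (mem_nonZeroDivisors_iff.1 hs).2 _ ?_
    linear_combination (μ - a) * hmul x hx' j hj + x * (hx.trans h0)

variable {X : Scheme.{u}}

open GrothLib.Goodman (st)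
open Scheme (IdealSheafData)

/-- Germs annihilating the ideal of a closed set `T` vanish on any closed set that is, near the
point, the closure of its part off `T`. -/
theorem mem_st_of_mul_eq_zero [IsLocallyNoetherian X] (Z T : Closeds X) (P : X)
    (hZT : (Z : Set X) ⊆ closure ((Z : Set X) \ T)) (a : X.presheaf.stalk P)
    (ha : ∀ b ∈ st (IdealSheafData.vanishingIdeal T) P, a * b = 0) :
    a ∈ st (IdealSheafData.vanishingIdeal Z) P := by
  obtain ⟨V, hV, hPV, -⟩ := exists_isAffineOpen_mem_and_subset (show P ∈ (⊤ : X.Opens) from trivial)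
  let U : X.affineOpens := ⟨V, hV⟩
  haveI := IsLocallyNoetherian.component_noetherian U
  letI := TopCat.Presheaf.algebra_section_stalk X.presheaf (U := V) ⟨P, hPV⟩
  haveI := hV.isLocalization_stalk ⟨P, hPV⟩
  let p := (hV.primeIdealOf ⟨P, hPV⟩).asIdeal
  obtain ⟨⟨s, c₀⟩, hs⟩ := IsLocalization.surj p.primeCompl a
  obtain ⟨S, hS⟩ := (IsNoetherian.noetherian ((IdealSheafData.vanishingIdeal T).ideal U) : Submodule.FG _)
  have hg : ∀ g : S, ∃ c : p.primeCompl, (c : Γ(X, V)) * (s * g.1) = 0 := fun g => by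
    refine (IsLocalization.map_eq_zero_iff p.primeCompl (X.presheaf.stalk P) _).1 ?_
    rw [map_mul, ← hs, mul_assoc, mul_comm (algebraMap _ _ _) (algebraMap _ (X.presheaf.stalk P) g.1), ← mul_assoc,
      ha _ ?_, zero_mul]
    rw [Goodman.st_eq _ U hPV]
    exact Ideal.mem_map_of_mem _ (hS ▸ Submodule.subset_span g.2)
  choose c hc using hg
  let d : p.primeCompl := ∏ g, c g
  have hd : ∀ g ∈ (IdealSheafData.vanishingIdeal T).ideal U, (d : Γ(X, V)) * (s * g) = 0 := by
    intro g hg
    rw [← hS] at hg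
    induction hg using Submodule.span_induction with
    | mem g hg =>
      obtain ⟨e, he⟩ : c ⟨g, hg⟩ ∣ d := Finset.dvd_prod_of_mem _ (Finset.mem_univ _)
      rw [he, Submonoid.coe_mul, mul_right_comm, hc ⟨g, hg⟩, zero_mul]
    | zero => rw [mul_zero, mul_zero]
    | add x y _ _ hx hy => rw [mul_add, mul_add, hx, hy, add_zero]
    | smul r x _ hx => rw [smul_eq_mul, mul_left_comm s r x, mul_left_comm, hx, mul_zero]
  have hmem : (d : Γ(X, V)) * s ∈ (IdealSheafData.vanishingIdeal Z).ideal U := by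
    rw [QCoh.mem_vanishingIdeal_iff]
    intro x hxV hxZ hxD
    obtain ⟨y, ⟨hyV, hyD⟩, hyZ, hyT⟩ :=
      mem_closure_iff.1 (hZT hxZ) ((V : Set X) ∩ X.basicOpen ((d : Γ(X, V)) * s))
        (V.2.inter (X.basicOpen _).2) ⟨hxV, hxD⟩
    refine hyT ?_
    have : y ∈ ((IdealSheafData.vanishingIdeal T).support : Set X) ∩ V := by
      rw [IdealSheafData.coe_support_inter _ U]
      refine ⟨?_, hyV⟩
      rw [Scheme.mem_zeroLocus_iff]
      intro g hg hgy
      have hy : y ∈ X.basicOpen ((d : Γ(X, V)) * s) ⊓ X.basicOpen g := ⟨hyD, hgy⟩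
      rw [← X.basicOpen_mul, mul_assoc, hd g hg, Scheme.basicOpen_zero] at hy
      exact hy
    simpa using this.1
  rw [Goodman.st_eq _ U hPV]
  have hu : IsUnit (algebraMap Γ(X, V) (X.presheaf.stalk P) ((d : Γ(X, V)) * c₀)) := by
    rw [map_mul]; exact (IsLocalization.map_units _ d).mul (IsLocalization.map_units _ c₀)
  refine (Ideal.mul_unit_mem_iff_mem _ hu).1 ?_
  have := Ideal.mem_map_of_mem (algebraMap Γ(X, V) (X.presheaf.stalk P)) hmem
  rw [map_mul, ← hs, ← mul_assoc, mul_comm _ a, mul_assoc, ← map_mul] at this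
  exact this

end GrothLib.NodeSplit16
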