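import Groth.Agent.Lib.NodeSplit16.Union
import Groth.Agent.Lib.SubCurve16.Stalk
import Groth.Agent.Lib.Snapper.Intersection
import Groth.Agent.Lib.UnitsThick26.FlatIdeal
import Groth.Agent.Lib.BCComp.Main
import Groth.Agent.Lib.IdealModSec.Basic

/-!
# The component sequence of two complementary subcurves
-/

set_option autoImplicit false
set_option linter.all false
set_option backward.isDefEq.respectTransparency false
set_option maxHeartbeats 1000000

universe u

open CategoryTheory CategoryTheory.Limits AlgebraicGeometry TopologicalSpace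

noncomputable section

namespace GrothLib.NodeSplit16

open GrothLib.Euler (tF)
open Scheme (IdealSheafData)

/-- The ideal of a reduced closed subscheme is that of its support. -/
theorem eq_vanishingIdeal {Y : Scheme.{u}} (I : Y.IdealSheafData) [IsReduced I.subscheme] :
    I = IdealSheafData.vanishingIdeal I.support := by
  rw [IdealSheafData.vanishingIdeal_support]
  refine le_antisymm I.le_radical fun U a ha => ?_
  obtain ⟨n, hn⟩ : a ∈ (I.ideal U).radical := ha
  rw [← I.ker_subschemeι_app U, RingHom.mem_ker] at hn ⊢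
  rw [map_pow] at hn
  exact IsNilpotent.eq_zero ⟨n, hn⟩

variable {X : Scheme.{u}} (A B : X.IdealSheafData) [IsReduced A.subscheme]
  (P : A.subscheme.IdealSheafData) [IsReduced P.subscheme]
  (hP : ∀ x : A.subscheme, x ∈ (P.support : Set A.subscheme) ↔ A.subschemeι x ∈ (B.support : Set X))
  (hsup : A ⊔ B = IdealSheafData.vanishingIdeal (A.support ⊓ B.support))

include hP hsup in
theorem app_mem_ideal_iff (U : X.affineOpens) (f : Γ(X, U.1)) :
    A.subschemeι.app U.1 f ∈ P.ideal ⟨A.subschemeι ⁻¹ᵁ U.1, U.2.preimage A.subschemeι⟩ ↔ f ∈ (A ⊔ B).ideal U := by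
  rw [hsup, eq_vanishingIdeal P, QCoh.mem_vanishingIdeal_iff, QCoh.mem_vanishingIdeal_iff]
  constructor
  · intro h x hxU hx hxf
    obtain ⟨y, rfl⟩ : x ∈ Set.range A.subschemeι := A.range_subschemeι ▸ hx.1
    exact h y hxU ((hP y).2 hx.2) (by rw [← Scheme.preimage_basicOpen]; exact hxf)
  · intro h y hyU hy hyf
    rw [← Scheme.preimage_basicOpen] at hyf
    exact h (A.subschemeι y) hyU ⟨A.range_subschemeι ▸ Set.mem_range_self y, (hP y).1 hy⟩ hyf

include hP hsup in
/-- The ideal of `B` is the ideal of the reduced intersection on `A`. -/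
theorem nonempty_push_idealMod_iso (hinf : A ⊓ B = ⊥) :
    Nonempty (ClSub.idealMod B ≅ (Scheme.Modules.pushforward A.subschemeι).obj (ClSub.idealMod P)) := by
  let push := Scheme.Modules.pushforward A.subschemeι
  let h := ClSub.idealModι B ≫ ClSub.toSubscheme A
  let hl := KernelFork.mapIsLimit _ (kernelIsKernel (ClSub.toSubscheme P)) push
  have hz : h ≫ push.map (ClSub.toSubscheme P) = 0 := by
    refine BCComp.hom_ext_affine fun V hV s => ?_
    show P.subschemeι.app (A.subschemeι ⁻¹ᵁ V) (A.subschemeι.app V (IdealModSec.val B V s)) = 0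
    have hb := IdealModSec.val_mem B ⟨V, hV⟩ s
    have hs : IdealModSec.val B V s ∈ (A ⊔ B).ideal ⟨V, hV⟩ := by
      rw [IdealSheafData.ideal_sup, Pi.sup_apply]; exact Submodule.mem_sup_right hb
    have h2 := (app_mem_ideal_iff A B P hP hsup ⟨V, hV⟩ _).2 hs
    rwa [← P.ker_subschemeι_app, RingHom.mem_ker] at h2
  let g : ClSub.idealMod B ⟶ push.obj (ClSub.idealMod P) := hl.lift (KernelFork.ofι h hz)
  have hg : g ≫ push.map (ClSub.idealModι P) = h := hl.fac (KernelFork.ofι h hz) WalkingParallelPair.zero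
  haveI : IsIso g := UnitsThick26.isIso_of_bijective_affine g fun V hV => by
    have hv : ∀ s, IdealModSec.val P (A.subschemeι ⁻¹ᵁ V) (g.app V s) = A.subschemeι.app V (IdealModSec.val B V s) :=
      fun s => congrArg (fun φ : ClSub.idealMod B ⟶ push.obj (Coh.structureModule A.subscheme) => φ.app V s) hg
    refine ⟨(injective_iff_map_eq_zero (g.app V).hom).2 fun s hs => IdealModSec.val_injective B V ?_, fun t => ?_⟩
    · rw [IdealModSec.val_zero]
      have h0 : A.subschemeι.app V (IdealModSec.val B V s) = 0 := by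
        rw [← hv, show g.app V s = 0 from hs]; exact IdealModSec.val_zero P _
      have hA : IdealModSec.val B V s ∈ A.ideal ⟨V, hV⟩ := by rwa [← A.ker_subschemeι_app, RingHom.mem_ker]
      have : IdealModSec.val B V s ∈ (A ⊓ B).ideal ⟨V, hV⟩ := by
        rw [IdealSheafData.ideal_inf]; exact ⟨hA, IdealModSec.val_mem B ⟨V, hV⟩ s⟩
      rw [hinf, IdealSheafData.ideal_bot, Pi.bot_apply, Ideal.mem_bot] at this
      exact this
    · obtain ⟨f, hf⟩ := A.subschemeι.app_surjective V hV (IdealModSec.val P (A.subschemeι ⁻¹ᵁ V) t)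
      have hmem := IdealModSec.val_mem P ⟨A.subschemeι ⁻¹ᵁ V, hV.preimage A.subschemeι⟩ t
      rw [← hf] at hmem
      have h2 := (app_mem_ideal_iff A B P hP hsup ⟨V, hV⟩ f).1 hmem
      rw [IdealSheafData.ideal_sup, Pi.sup_apply, Submodule.mem_sup] at h2
      obtain ⟨a, ha, b, hb, rfl⟩ := h2
      obtain ⟨s, hs⟩ := IdealModSec.exists_val_eq B ⟨V, hV⟩ hb
      refine ⟨s, IdealModSec.val_injective P _ ((hv s).trans ?_)⟩
      have ha0 : A.subschemeι.app V a = 0 := by rwa [← A.ker_subschemeι_app ⟨V, hV⟩, RingHom.mem_ker] at ha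
      rw [← hf, map_add, ha0, zero_add, hs]
  exact ⟨asIso g⟩

variable (k : Type u) [Field k] [X.Over (Spec (CommRingCat.of k))] [IsProper (X ↘ Spec (CommRingCat.of k))]

include hP hsup k in
theorem subsingleton_H1_tensor_idealMod (hinf : A ⊓ B = ⊥) {F : X.Modules} (hF : FlatMod.IsFinLocFree F)
    (hvan : Subsingleton (Coh.HH A.subscheme
      (CohB1.tensorMod ((Scheme.Modules.pullback A.subschemeι).obj F) (ClSub.idealMod P)) 1)) :
    Subsingleton (Coh.HH X ((tF F).obj (ClSub.idealMod B)) 1) := by
  obtain ⟨i⟩ := nonempty_push_idealMod_iso A B P hP hsup hinf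
  haveI := Euler.isNoetherian_of_proper (X := X) k
  letI : A.subscheme.Over (Spec (CommRingCat.of k)) := ⟨A.subschemeι ≫ X ↘ Spec (CommRingCat.of k)⟩
  haveI : IsProper (A.subscheme ↘ Spec (CommRingCat.of k)) :=
    inferInstanceAs (IsProper (A.subschemeι ≫ X ↘ Spec (CommRingCat.of k)))
  haveI := ProjFormula.isIso_projHom A.subschemeι hF (ClSub.idealMod P)
  let M := CohB1.tensorMod ((Scheme.Modules.pullback A.subschemeι).obj F) (ClSub.idealMod P)
  haveI : M.IsQuasicoherent := (show Coh.IsCoh M from by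
    haveI := Euler.isNoetherian_of_proper (X := A.subscheme) k
    exact QCoh.isCoh_of_iso (((OX.tensorBraiding (X := A.subscheme)).app _).app _)
      (Euler.isCoh_tF (QCoh.isCoh_kernel (ClSub.toSubscheme P)
        (Euler.isCoh_of_isInvertible Euler.isInvertible_structure) (QCoh.pushUnit_isCoh P.subschemeι))
        (OX.isFinLocFree_pullback A.subschemeι hF))).1
  obtain ⟨e⟩ := Snapper.nonempty_HH_linearEquiv_pushforward (A := k) A.subschemeι rfl M 1
  haveI : Subsingleton (Coh.HH X ((Scheme.Modules.pushforward A.subschemeι).obj M) 1) := e.symm.toEquiv.subsingleton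
  have i' : (tF F).obj (ClSub.idealMod B) ≅ (Scheme.Modules.pushforward A.subschemeι).obj M :=
    (tF F).mapIso i ≪≫ ((OX.tensorBraiding (X := X)).app F).app _ ≪≫
      asIso (ProjFormula.projHom A.subschemeι F (ClSub.idealMod P))
  exact (Euler.hhEquiv (A := k) i' 1).toEquiv.subsingleton

omit [IsReduced A.subscheme]

include k in
/-- Restriction to a closed subscheme does not change `H¹` when the kernel has none. -/
theorem finrank_H1_restrict (hd : topologicalKrullDim X ≤ 1) {F : X.Modules} (hF : FlatMod.IsFinLocFree F)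
    (h : Subsingleton (Coh.HH X ((tF F).obj (ClSub.idealMod B)) 1)) :
    Module.finrank k (Coh.HH X F 1) =
      @Module.finrank k (Coh.HH B.subscheme ((Scheme.Modules.pullback B.subschemeι).obj F) 1) _ _
        (letI : B.subscheme.Over (Spec (CommRingCat.of k)) := ⟨B.subschemeι ≫ (X ↘ (Spec (CommRingCat.of k)))⟩
         inferInstance) := by
  haveI := Euler.isNoetherian_of_proper (X := X) k
  letI : B.subscheme.Over (Spec (CommRingCat.of k)) := ⟨B.subschemeι ≫ X ↘ Spec (CommRingCat.of k)⟩
  haveI := Euler.epi_toSubscheme B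
  let S := ShortComplex.mk (ClSub.idealModι B) (ClSub.toSubscheme B) (kernel.condition _)
  have hS : S.ShortExact :=
    { exact := ShortComplex.exact_of_f_is_kernel _ (kernelIsKernel _)
      mono_f := inferInstanceAs (Mono (kernel.ι _))
      epi_g := ‹_› }
  have hT := OX.tensor_map_shortExact (X := X) (F := F) (OX.flat_of_isFinLocFree hF) hS
  let T := S.map (tF F)
  haveI : Epi T.g := hT.epi_g
  have hO : Coh.IsCoh ((tF F).obj (Coh.structureModule X)) :=
    Euler.isCoh_tF (Euler.isCoh_of_isInvertible Euler.isInvertible_structure) hF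
  have hQ : Coh.IsCoh ((tF F).obj (ClSub.quotMod B)) := Euler.isCoh_tF (Snapper.isCoh_quotMod k _) hF
  have hbij : Function.Bijective (Cohom.hhMap k T.g 1) := by
    refine ⟨(injective_iff_map_eq_zero _).2 fun y hy => ?_, SubCurve16.surjective_H1_of_epi k hd T.g hO hQ⟩
    obtain ⟨z, rfl⟩ := (Cohom.exact₂ (A := k) hT 1 y).1 hy
    haveI : Subsingleton (Coh.HH X (S.map (tF F)).X₁ 1) := h
    rw [Subsingleton.elim z 0, map_zero]
  haveI := ProjFormula.isIso_projHom B.subschemeι hF (Coh.structureModule B.subscheme)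
  let F' := (Scheme.Modules.pullback B.subschemeι).obj F
  have e1 : (tF F).obj (ClSub.quotMod B) ≅ (Scheme.Modules.pushforward B.subschemeι).obj F' :=
    ((OX.tensorBraiding (X := X)).app F).app _ ≪≫
      asIso (ProjFormula.projHom B.subschemeι F (Coh.structureModule B.subscheme)) ≪≫
      (Scheme.Modules.pushforward B.subschemeι).mapIso (Euler.tFUnitIso F')
  haveI : F'.IsQuasicoherent := Euler.isQuasicoherent_of_isFinLocFree (OX.isFinLocFree_pullback B.subschemeι hF)
  obtain ⟨e2⟩ := Snapper.nonempty_HH_linearEquiv_pushforward (A := k) B.subschemeι rfl F' 1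
  let e0 : (tF F).obj (Coh.structureModule X) ≅ F := OX.tensorUnitLeftIso F
  exact ((Euler.hhEquiv (A := k) e0 1).symm.trans ((LinearEquiv.ofBijective _ hbij).trans
    ((Euler.hhEquiv (A := k) e1 1).trans e2.symm))).finrank_eq

end GrothLib.NodeSplit16

namespace GrothLib.NodeSplit16

/-- Subcurves without common components are the closures of their complements. -/
theorem subset_closure_diff {X : Scheme.{u}} {S T : TopologicalSpace.Closeds X}
    (hunion : ∀ x ∈ (S : Set X), ∃ Z : X.IdealSheafData, IsIntegral Z.subscheme ∧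
      topologicalKrullDim (Z.support : Set X) = 1 ∧ (Z.support : Set X) ⊆ S ∧ x ∈ (Z.support : Set X))
    (hno : ∀ Z : X.IdealSheafData, IsIntegral Z.subscheme → topologicalKrullDim (Z.support : Set X) = 1 →
      ¬ ((Z.support : Set X) ⊆ S ∧ (Z.support : Set X) ⊆ T)) :
    (S : Set X) ⊆ closure ((S : Set X) \ T) := by
  intro x hx
  obtain ⟨Z, hZ, hd, hZS, hxZ⟩ := hunion x hx
  haveI := hZ
  rw [← Z.range_subschemeι] at hxZ
  obtain ⟨y, rfl⟩ := hxZ
  have hη : Z.subschemeι (genericPoint Z.subscheme) ⤳ Z.subschemeι y :=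
    (genericPoint_specializes y).map Z.subschemeι.continuous
  have hmem : Z.subschemeι (genericPoint Z.subscheme) ∈ (Z.support : Set X) :=
    Z.range_subschemeι ▸ Set.mem_range_self _
  have hsub : ({Z.subschemeι (genericPoint Z.subscheme)} : Set X) ⊆ (S : Set X) \ T := by
    refine Set.singleton_subset_iff.2 ⟨hZS hmem, fun hT => hno Z hZ hd ⟨hZS, ?_⟩⟩
    rw [← Z.range_subschemeι]
    rintro _ ⟨z, rfl⟩
    exact ((genericPoint_specializes z).map Z.subschemeι.continuous).mem_closed T.isClosed hT
  exact closure_mono hsub (specializes_iff_mem_closure.1 hη)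

end GrothLib.NodeSplit16
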