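import Groth.Agent.Lib.NodeSplit16.Basic
import Groth.Agent.Lib.Multicross2.Node
import Groth.Agent.Lib.TFCurv11.NodePush
import Groth.Agent.Lib.PointIdeal16.Main
import Groth.Agent.Lib.ArSurf29.Sections
import Groth.Agent.Lib.DivPart.Basic

/-!
# Complementary subcurves of a nodal curve meet in a reduced scheme
-/

set_option autoImplicit false
set_option linter.all false
set_option backward.isDefEq.respectTransparency false

universe u

open CategoryTheory CategoryTheory.Limits AlgebraicGeometry TopologicalSpace IsLocalRing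

noncomputable section

namespace GrothLib.NodeSplit16

open GrothLib.Goodman (st)
open Scheme (IdealSheafData)

variable {X : Scheme.{u}}

theorem vanishing_inf_eq_bot [IsReduced X] (Z₁ Z₂ : Closeds X) (h : (Z₁ : Set X) ∪ Z₂ = Set.univ) :
    IdealSheafData.vanishingIdeal Z₁ ⊓ IdealSheafData.vanishingIdeal Z₂ = ⊥ := by
  refine IdealSheafData.ext ?_
  funext U
  rw [IdealSheafData.ideal_inf, IdealSheafData.ideal_bot, Pi.inf_apply, Pi.bot_apply]
  refine (Submodule.eq_bot_iff _).2 fun a ha => (basicOpen_eq_bot_iff a).1 (eq_bot_iff.2 fun x hx => ?_)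
  rcases (Set.eq_univ_iff_forall.1 h x) with hx' | hx'
  · exact absurd hx ((QCoh.mem_vanishingIdeal_iff _ U a).1 ha.1 x (X.basicOpen_le a hx) hx')
  · exact absurd hx ((QCoh.mem_vanishingIdeal_iff _ U a).1 ha.2 x (X.basicOpen_le a hx) hx')

theorem st_bot (x : X) : st (⊥ : X.IdealSheafData) x = ⊥ := by
  obtain ⟨V, hV, hxV, -⟩ := exists_isAffineOpen_mem_and_subset (show x ∈ (⊤ : X.Opens) from trivial)
  rw [Goodman.st_eq _ ⟨V, hV⟩ hxV, IdealSheafData.ideal_bot, Pi.bot_apply, Ideal.map_bot]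

theorem st_inf_eq_bot [IsReduced X] (Z₁ Z₂ : Closeds X) (h : (Z₁ : Set X) ∪ Z₂ = Set.univ) (x : X) :
    st (IdealSheafData.vanishingIdeal Z₁) x ⊓ st (IdealSheafData.vanishingIdeal Z₂) x = ⊥ := by
  rw [← IdealMV12.st_inf, vanishing_inf_eq_bot Z₁ Z₂ h, st_bot]

theorem le_of_st_le {I J : X.IdealSheafData} (h : ∀ x, st I x ≤ st J x) : I ≤ J :=
  DivPart.le_of_stalkIdeal fun x => by rw [← ArSurf29.goodman_st_eq, ← ArSurf29.goodman_st_eq]; exact h x

theorem st_ne_top {Z : Closeds X} {x : X} (hx : x ∈ Z) : st (IdealSheafData.vanishingIdeal Z) x ≠ ⊤ := by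
  obtain ⟨V, hV, hxV, -⟩ := exists_isAffineOpen_mem_and_subset (show x ∈ (⊤ : X.Opens) from trivial)
  rw [Goodman.st_eq _ ⟨V, hV⟩ hxV]
  refine fun h => (IsLocalRing.maximalIdeal.isMaximal (X.presheaf.stalk x)).ne_top (top_le_iff.1 (h ▸ ?_))
  rw [Ideal.map_le_iff_le_comap]
  intro a ha
  rw [Ideal.mem_comap, IsLocalRing.mem_maximalIdeal, mem_nonunits_iff]
  exact fun hu => (QCoh.mem_vanishingIdeal_iff _ _ a).1 ha x hxV hx ((Scheme.mem_basicOpen _ a x hxV).2 hu)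

/-- On the common part of two complementary closed sets the local ring is not a domain. -/
theorem not_isDomain [IsLocallyNoetherian X] [IsReduced X] (Z₁ Z₂ : Closeds X)
    (h : (Z₁ : Set X) ∪ Z₂ = Set.univ)
    (h₁ : (Z₁ : Set X) ⊆ closure ((Z₁ : Set X) \ Z₂)) (h₂ : (Z₂ : Set X) ⊆ closure ((Z₂ : Set X) \ Z₁))
    {x : X} (hx₁ : x ∈ Z₁) (hx₂ : x ∈ Z₂) : ¬ IsDomain (X.presheaf.stalk x) := by
  intro hdom
  by_cases hA : st (IdealSheafData.vanishingIdeal Z₁) x = ⊥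
  · refine st_ne_top hx₂ ((Ideal.eq_top_iff_one _).2 (mem_st_of_mul_eq_zero Z₂ Z₁ x h₂ 1 fun b hb => ?_))
    rw [one_mul, ← Ideal.mem_bot, ← hA]; exact hb
  · obtain ⟨a, ha, ha0⟩ := Submodule.exists_mem_ne_zero_of_ne_bot hA
    refine st_ne_top hx₁ ((Ideal.eq_top_iff_one _).2 (mem_st_of_mul_eq_zero Z₁ Z₂ x h₁ 1 fun b hb => ?_))
    rw [one_mul]
    refine (mul_eq_zero.1 ((Submodule.eq_bot_iff _).1 (st_inf_eq_bot Z₁ Z₂ h x) (a * b)
      ⟨Ideal.mul_mem_right _ _ ha, Ideal.mul_mem_left _ _ hb⟩)).resolve_left ha0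

/-- At a common point of complementary subcurves the ideals fill the maximal ideal. -/
theorem maximalIdeal_le_sup {k : Type u} [Field k] [IsAlgClosed k] {X : Scheme.{u}} [X.Over (Spec (CommRingCat.of k))]
    [IsProper (X ↘ Spec (CommRingCat.of k))] [IsReduced X] [ConnectedSpace X] (hdim : topologicalKrullDim X = 1)
    (hX : Curv2.AtWorstNodal k X) (Z₁ Z₂ : Closeds X) (h : (Z₁ : Set X) ∪ Z₂ = Set.univ)
    (h₁ : (Z₁ : Set X) ⊆ closure ((Z₁ : Set X) \ Z₂)) (h₂ : (Z₂ : Set X) ⊆ closure ((Z₂ : Set X) \ Z₁))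
    {x : X} (hx₁ : x ∈ Z₁) (hx₂ : x ∈ Z₂) :
    maximalIdeal (X.presheaf.stalk x) ≤
      st (IdealSheafData.vanishingIdeal Z₁) x ⊔ st (IdealSheafData.vanishingIdeal Z₂) x := by
  haveI := Euler.isNoetherian_of_proper (X := X) k
  have hnd := not_isDomain Z₁ Z₂ h h₁ h₂ hx₁ hx₂
  have hxc : IsClosed ({x} : Set X) := by
    by_contra hxc
    obtain ⟨y, hy, hyc⟩ := (isClosed_closure (s := ({x} : Set X))).exists_closed_singleton
      ((Set.singleton_nonempty x).closure)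
    have hne : x ≠ y := fun e => hxc (e ▸ hyc)
    exact hnd (NodeLattice11.isField_of_generalizes hdim.le (specializes_iff_mem_closure.2 hy) hne).isDomain
  rcases hX x hxc with ⟨U, hxU, hU⟩ | hn
  · exfalso
    haveI := hU
    have hcl : IsClosed ({⟨x, hxU⟩} : Set (U : Scheme.{u})) := by
      rw [show ({⟨x, hxU⟩} : Set (U : Scheme.{u})) = U.ι ⁻¹' {x} from by
        ext y; simp only [Set.mem_singleton_iff, Set.mem_preimage]; exact Subtype.ext_iff]
      exact hxc.preimage U.ι.continuous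
    haveI := GrpSchField.isRegularLocalRing_stalk_of_smooth (U.ι ≫ (X ↘ (Spec (CommRingCat.of k)))) hcl
    haveI : IsRegularLocalRing (X.presheaf.stalk x) :=
      IsRegularLocalRing.of_ringEquiv (U.stalkIso ⟨x, hxU⟩).commRingCatIsoToRingEquiv
    exact hnd (CMFree.isDomain_of_isRegularLocalRing (X.presheaf.stalk x))
  · exact le_sup_of_deltaInv_eq_one (Multicross2.deltaInv_node (NodePush11.components_dim_one k hdim) hn)
      (st_inf_eq_bot Z₁ Z₂ h x) (fun a ha => mem_st_of_mul_eq_zero Z₁ Z₂ x h₁ a ha)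
      (fun a ha => mem_st_of_mul_eq_zero Z₂ Z₁ x h₂ a ha)
      (IsLocalRing.le_maximalIdeal (st_ne_top hx₁)) (IsLocalRing.le_maximalIdeal (st_ne_top hx₂))


/-- Complementary subcurves of a nodal curve meet in a reduced scheme. -/
theorem sup_vanishing_eq {k : Type u} [Field k] [IsAlgClosed k] {X : Scheme.{u}} [X.Over (Spec (CommRingCat.of k))]
    [IsProper (X ↘ Spec (CommRingCat.of k))] [IsReduced X] [ConnectedSpace X] (hdim : topologicalKrullDim X = 1)
    (hX : Curv2.AtWorstNodal k X) (Z₁ Z₂ : Closeds X) (h : (Z₁ : Set X) ∪ Z₂ = Set.univ)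
    (h₁ : (Z₁ : Set X) ⊆ closure ((Z₁ : Set X) \ Z₂)) (h₂ : (Z₂ : Set X) ⊆ closure ((Z₂ : Set X) \ Z₁)) :
    IdealSheafData.vanishingIdeal Z₁ ⊔ IdealSheafData.vanishingIdeal Z₂ = IdealSheafData.vanishingIdeal (Z₁ ⊓ Z₂) := by
  haveI := Euler.isNoetherian_of_proper (X := X) k
  have hle₁ := IdealSheafData.vanishingIdeal_antimono (X := X) (inf_le_left : Z₁ ⊓ Z₂ ≤ Z₁)
  have hle₂ := IdealSheafData.vanishingIdeal_antimono (X := X) (inf_le_right : Z₁ ⊓ Z₂ ≤ Z₂)
  refine le_antisymm (sup_le hle₁ hle₂) (le_of_st_le fun x => ?_)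
  rw [IdealMV12.st_sup]
  by_cases hx₁ : x ∈ Z₁
  swap
  · exact le_top.trans (le_of_eq_of_le (Goodman.st_of_notMem (IdealSheafData.vanishingIdeal Z₁) (by simpa using hx₁)).symm (le_sup_left))
  by_cases hx₂ : x ∈ Z₂
  swap
  · exact le_top.trans (le_of_eq_of_le (Goodman.st_of_notMem (IdealSheafData.vanishingIdeal Z₂) (by simpa using hx₂)).symm (le_sup_right))
  exact (IsLocalRing.le_maximalIdeal (st_ne_top (Z := Z₁ ⊓ Z₂) ⟨hx₁, hx₂⟩)).trans (maximalIdeal_le_sup hdim hX Z₁ Z₂ h h₁ h₂ hx₁ hx₂)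

end GrothLib.NodeSplit16
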